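import Cfsg.Agent.Lib.AutPSL.Main
import Cfsg.Prelude.Def_KGroupFacts

/-!
The outer automorphism group of `PSL_n` over a finite field: uniqueness in the decomposition, the group of
inner-diagonal automorphisms modulo inner ones, and the automorphism group of a finite field.
-/

set_option autoImplicit false

open Matrix
open scoped MatrixGroups

namespace Cfsg.Agent.AutPSLOuter

open Cfsg.Agent.AutPSL

variable {m : ℕ} {F : Type*} [Field F]

local notation "SLn" => Matrix.SpecialLinearGroup (Fin (m + 1)) F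
local notation "PSLn" => Matrix.ProjectiveSpecialLinearGroup (Fin (m + 1)) F
local notation "GLn" => GL (Fin (m + 1)) F

theorem inv_transpose_val (g : GLn) :
    ((g⁻¹ : GLn) : Matrix (Fin (m + 1)) (Fin (m + 1)) F).transpose *
      (g : Matrix (Fin (m + 1)) (Fin (m + 1)) F).transpose = 1 := by
  rw [← Matrix.transpose_mul, Units.mul_inv, Matrix.transpose_one]

/-- Inverse transpose on `GL`. -/
noncomputable def glInvT (g : GLn) : GLn :=
  ⟨((g⁻¹ : GLn) : Matrix (Fin (m + 1)) (Fin (m + 1)) F).transpose,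
    (g : Matrix (Fin (m + 1)) (Fin (m + 1)) F).transpose,
    inv_transpose_val g, by rw [← Matrix.transpose_mul, Units.inv_mul, Matrix.transpose_one]⟩

theorem fieldP_mul_conjP (σ : F ≃+* F) (g : GLn) :
    (fieldP σ : MulAut PSLn) * conjP g = conjP (Units.map σ.toRingHom.mapMatrix.toMonoidHom g) * fieldP σ := by
  refine MulEquiv.ext fun x => ?_
  induction x using QuotientGroup.induction_on with
  | _ s =>
    simp only [MulAut.mul_apply, conjP_mk, fieldP_mk]
    refine congrArg QuotientGroup.mk (Subtype.ext ?_)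
    rw [fieldSL_coe, conjSL_coe, conjSL_coe, fieldSL_coe]
    rw [Matrix.map_mul, Matrix.map_mul, ← map_inv]
    rfl

theorem invP_mul_conjP (g : GLn) : (invP : MulAut PSLn) * conjP g = conjP (glInvT g) * invP := by
  refine MulEquiv.ext fun x => ?_
  induction x using QuotientGroup.induction_on with
  | _ s =>
    simp only [MulAut.mul_apply, conjP_mk, invP_mk]
    refine congrArg QuotientGroup.mk (Subtype.ext ?_)
    rw [invT_coe, ← map_inv, conjSL_coe, conjSL_coe, invT_coe, Matrix.transpose_mul, Matrix.transpose_mul,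
      Matrix.mul_assoc]
    rfl

theorem invP_mul_fieldP (σ : F ≃+* F) : (invP : MulAut PSLn) * fieldP σ = fieldP σ * invP := by
  refine MulEquiv.ext fun x => ?_
  induction x using QuotientGroup.induction_on with
  | _ s =>
    simp only [MulAut.mul_apply, fieldP_mk, invP_mk]
    refine congrArg QuotientGroup.mk (Subtype.ext ?_)
    rw [invT_coe, ← map_inv, fieldSL_coe, fieldSL_coe, invT_coe, Matrix.transpose_map]

/-- Field automorphisms act. -/
def fieldHom : (F ≃+* F) →* MulAut PSLn where
  toFun := fieldP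
  map_one' := MulEquiv.ext fun x => by
    induction x using QuotientGroup.induction_on with
    | _ s =>
      rw [fieldP_mk, MulAut.one_apply]
      exact congrArg QuotientGroup.mk (Subtype.ext (by rw [fieldSL_coe]; ext i j; rfl))
  map_mul' σ τ := MulEquiv.ext fun x => by
    induction x using QuotientGroup.induction_on with
    | _ s =>
      simp only [MulAut.mul_apply, fieldP_mk]
      refine congrArg QuotientGroup.mk (Subtype.ext ?_)
      rw [fieldSL_coe, fieldSL_coe, fieldSL_coe]
      ext i j; rfl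

theorem fieldP_root (σ : F ≃+* F) {i j : Fin (m + 1)} (hij : i ≠ j) :
    (root (Pi.single i 1) (Pi.single j 1) (dot_single (F := F) hij)).map (fieldP σ : MulAut PSLn).toMonoidHom =
      root (Pi.single i 1) (Pi.single j 1) (dot_single hij) := by
  ext x
  constructor
  · rintro ⟨y, hy, rfl⟩
    obtain ⟨t, rfl⟩ := (mem_root_single hij).1 hy
    exact (mem_root_single hij).2 ⟨σ t, fieldP_xel σ hij t⟩
  · intro hx
    obtain ⟨t, rfl⟩ := (mem_root_single hij).1 hx
    refine ⟨xel i j hij (σ.symm t), (mem_root_single hij).2 ⟨_, rfl⟩, ?_⟩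
    show fieldP σ (xel i j hij (σ.symm t)) = _
    rw [fieldP_xel, RingEquiv.apply_symm_apply]

section Finite

variable [Fintype F]

/-- No inner-diagonal times field automorphism is inverse-transpose, in dimension at least three. -/
theorem conjP_fieldP_invP_ne (hm : 2 ≤ m) (g : GLn) (σ : F ≃+* F) :
    (conjP g * fieldP σ * invP : MulAut PSLn) ≠ 1 := by
  intro h
  have key : ∀ i j (hij : i ≠ j),
      Par (Pi.single i 1) ((g : Matrix (Fin (m + 1)) (Fin (m + 1)) F) *ᵥ Pi.single j 1) := by
    intro i j hij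
    refine (root_inj (φ := Pi.single j 1) (h := dot_single hij) (h' := dot_conj g (dot_single hij.symm))
      (by simp) (by simp) ?_).1
    rw [← map_conjP_root g (dot_single hij.symm), ← fieldP_root σ hij.symm, ← invP_root hij, Subgroup.map_map,
      Subgroup.map_map]
    have : ((conjP g : MulAut PSLn).toMonoidHom.comp (fieldP σ).toMonoidHom).comp invP.toMonoidHom =
        MonoidHom.id _ := MonoidHom.ext fun x => DFunLike.congr_fun h x
    rw [this, Subgroup.map_id]
  have h1 := key ⟨1, by omega⟩ ⟨0, by omega⟩ (by simp [Fin.ext_iff])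
  have h2 := key ⟨2, by omega⟩ ⟨0, by omega⟩ (by simp [Fin.ext_iff])
  have := par_single (h1.trans h2.symm)
  simp [Fin.ext_iff] at this

/-- An inner-diagonal times field automorphism is trivial only for a scalar matrix and the trivial field map. -/
theorem eq_one_of_conjP_mul_fieldP (hm : 1 ≤ m) (g : GLn) (σ : F ≃+* F)
    (h : (conjP g * fieldP σ : MulAut PSLn) = 1) :
    σ = 1 ∧ ∃ c : Fˣ, g = GL.diagHom (fun _ => c) := by
  classical
  have key : ∀ i j (hij : i ≠ j),
      Par (Pi.single i 1) ((g : Matrix (Fin (m + 1)) (Fin (m + 1)) F) *ᵥ Pi.single i 1) := by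
    intro i j hij
    refine (root_inj (φ := Pi.single j 1) (h := dot_single hij) (h' := dot_conj g (dot_single hij))
      (by simp) (by simp) ?_).1
    rw [← map_conjP_root g (dot_single hij), ← fieldP_root σ hij, Subgroup.map_map, fieldP_root σ hij]
    have : (conjP g : MulAut PSLn).toMonoidHom.comp (fieldP σ).toMonoidHom = MonoidHom.id _ :=
      MonoidHom.ext fun x => DFunLike.congr_fun h x
    rw [this, Subgroup.map_id]
  have hd : ∀ i, ∃ c : Fˣ, (g : Matrix (Fin (m + 1)) (Fin (m + 1)) F) *ᵥ Pi.single i 1 = (c : F) • Pi.single i 1 := by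
    intro i
    obtain ⟨c, hc, hc'⟩ := key i (i + 1) (succ_ne hm i)
    exact ⟨Units.mk0 c hc, hc'⟩
  choose d hd using hd
  have hg : g = GL.diagHom d := by
    refine Units.ext (Matrix.ext fun a b => ?_)
    have := congrFun (hd b) a
    rw [GL.coe_diagHom, Matrix.diagonal_apply]
    simp [Pi.single_apply] at this
    rw [this]
    split_ifs with h1 <;> simp_all
  have hx : ∀ i j (hij : i ≠ j) (t : F), (d i : F) * σ t * ((d j)⁻¹ : Fˣ) = t := by
    intro i j hij t
    refine xel_injective hij ?_
    rw [← conjP_diag_xel d hij, ← fieldP_xel σ hij, ← hg]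
    exact DFunLike.congr_fun h (xel i j hij t)
  have heq : ∀ i j, i ≠ j → d i = d j := by
    intro i j hij
    have := hx i j hij 1
    rw [map_one, mul_one] at this
    exact Units.ext ((Units.mul_inv_eq_one (u := d j)).1 this)
  refine ⟨RingEquiv.ext fun t => ?_, d 0, hg.trans (congrArg _ (funext fun i => ?_))⟩
  · have := hx 0 (0 + 1) (succ_ne hm 0) t
    rw [heq 0 (0 + 1) (succ_ne hm 0), mul_right_comm, Units.mul_inv, one_mul] at this
    exact this
  · by_cases hi : i = 0
    · rw [hi]
    · exact heq i 0 hi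

/-- The decomposition is unique up to scalars, in dimension at least three. -/
theorem eq_one_of_decomposition (hm : 2 ≤ m) (g : GLn) (σ : F ≃+* F) (e : Multiplicative (ZMod 2))
    (γ : MulAut PSLn) (hγ : γ = if e = 1 then 1 else invP) (h : conjP g * fieldP σ * γ = 1) :
    σ = 1 ∧ e = 1 := by
  by_cases he : e = 1
  · rw [hγ, if_pos he, mul_one] at h
    exact ⟨(eq_one_of_conjP_mul_fieldP (by omega) g σ h).1, he⟩
  · rw [hγ, if_neg he] at h
    exact absurd h (conjP_fieldP_invP_ne hm g σ)

theorem range_conjP_normal (hm : 1 ≤ m) : ((conjP : GLn →* MulAut PSLn).range).Normal := by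
  refine ⟨?_⟩
  rintro _ ⟨x, rfl⟩ β
  obtain ⟨g, σ, γ, hγ, rfl⟩ := exists_decomposition hm β
  have h1 : ∀ y : GLn, ∃ z : GLn, γ * conjP y * γ⁻¹ = conjP z := by
    intro y
    rcases hγ with rfl | rfl
    · exact ⟨y, by simp⟩
    · exact ⟨glInvT y, by rw [invP_mul_conjP, mul_inv_cancel_right]⟩
  obtain ⟨z, hz⟩ := h1 x
  refine ⟨g * Units.map σ.toRingHom.mapMatrix.toMonoidHom z * g⁻¹, ?_⟩
  rw [show conjP g * fieldP σ * γ * conjP x * (conjP g * fieldP σ * γ)⁻¹ =
      conjP g * (fieldP σ * (γ * conjP x * γ⁻¹) * (fieldP σ)⁻¹) * (conjP g)⁻¹ by group,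
    hz, fieldP_mul_conjP, mul_inv_cancel_right, map_mul, map_mul, map_inv]

omit [Fintype F] in
theorem inn_le_range : Cfsg.Inn PSLn ≤ (conjP : GLn →* MulAut PSLn).range := by
  rintro _ ⟨x, rfl⟩
  induction x using QuotientGroup.induction_on with
  | _ s => exact ⟨_, conjP_toGL s⟩

/-- Inner-diagonal automorphisms in the outer automorphism group. -/
noncomputable def outDiag : GLn →* Cfsg.Out PSLn := (QuotientGroup.mk' (Cfsg.Inn PSLn)).comp conjP

/-- The diagonal automorphism of determinant `c`. -/
noncomputable def outUnit : Fˣ →* Cfsg.Out PSLn :=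
  outDiag.comp (GL.diagHom.comp (MonoidHom.mulSingle (fun _ : Fin (m + 1) => Fˣ) 0))

omit [Fintype F] in
theorem det_diag_single (c : Fˣ) :
    Matrix.GeneralLinearGroup.det (GL.diagHom (Pi.mulSingle (0 : Fin (m + 1)) c) : GLn) = c := by
  rw [GL.det_diagHom, Finset.prod_pi_mulSingle', if_pos (Finset.mem_univ _)]

omit [Fintype F] in
theorem outDiag_eq (g : GLn) : outDiag g = outUnit (Matrix.GeneralLinearGroup.det g) := by
  have hm : (GL.diagHom (Pi.mulSingle 0 (Matrix.GeneralLinearGroup.det g)) : GLn)⁻¹ * g ∈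
      (Matrix.GeneralLinearGroup.det : GLn →* Fˣ).ker := by
    rw [MonoidHom.mem_ker, map_mul, map_inv, det_diag_single, inv_mul_cancel]
  rw [GL.det_ker_eq_range_toGL] at hm
  obtain ⟨a, ha⟩ := hm
  show outDiag g = outDiag (GL.diagHom (Pi.mulSingle 0 (Matrix.GeneralLinearGroup.det g)))
  have h : outDiag (Matrix.SpecialLinearGroup.toGL a : GLn) = 1 :=
    (QuotientGroup.eq_one_iff _).2 ⟨_, (conjP_toGL a).symm⟩
  rw [ha, map_mul, map_inv, inv_mul_eq_one] at h
  exact h.symm

theorem range_outDiag : (outDiag : GLn →* Cfsg.Out PSLn).range = (outUnit (m := m) (F := F)).range := by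
  refine le_antisymm ?_ ?_
  · rintro _ ⟨g, rfl⟩
    exact ⟨_, (outDiag_eq g).symm⟩
  · rintro _ ⟨c, rfl⟩
    exact ⟨_, rfl⟩

theorem ker_outUnit (hm : 1 ≤ m) :
    (outUnit (m := m) (F := F)).ker = (powMonoidHom (m + 1) : Fˣ →* Fˣ).range := by
  ext c
  rw [MonoidHom.mem_ker]
  constructor
  · intro h
    obtain ⟨x, hx⟩ := (QuotientGroup.eq_one_iff _).1 h
    induction x using QuotientGroup.induction_on with
    | _ s =>
      have h1 : (conjP ((GL.diagHom (Pi.mulSingle (0 : Fin (m + 1)) c) : GLn)⁻¹ * Matrix.SpecialLinearGroup.toGL s) *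
          fieldP (1 : F ≃+* F) : MulAut PSLn) = 1 := by
        rw [show (fieldP (1 : F ≃+* F) : MulAut PSLn) = 1 from map_one fieldHom, mul_one, map_mul, map_inv,
          conjP_toGL, inv_mul_eq_one]
        exact hx.symm
      obtain ⟨-, r, hr⟩ := eq_one_of_conjP_mul_fieldP hm _ _ h1
      have hd := congrArg (fun y : GLn => Matrix.GeneralLinearGroup.det y) hr
      rw [map_mul, map_inv, det_diag_single, GL.det_diagHom, Finset.prod_const, Finset.card_univ,
        Fintype.card_fin] at hd
      rw [show Matrix.GeneralLinearGroup.det (Matrix.SpecialLinearGroup.toGL s : GLn) = 1 from Units.ext s.2,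
        mul_one] at hd
      exact ⟨r⁻¹, by rw [powMonoidHom_apply, inv_pow, ← hd, inv_inv]⟩
  · rintro ⟨r, rfl⟩
    have h1 : outDiag (GL.diagHom (fun _ => r) : GLn) = outUnit ((powMonoidHom (m + 1) : Fˣ →* Fˣ) r) := by
      rw [outDiag_eq, GL.det_diagHom, Finset.prod_const, Finset.card_univ, Fintype.card_fin, powMonoidHom_apply]
    rw [← h1]
    have : conjP (GL.diagHom (fun _ => r) : GLn) = 1 := by
      refine MulEquiv.ext fun x => ?_
      induction x using QuotientGroup.induction_on with
      | _ t =>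
        rw [conjP_mk, MulAut.one_apply]
        refine congrArg QuotientGroup.mk (Subtype.ext ?_)
        rw [conjSL_coe, ← map_inv, GL.coe_diagHom, GL.coe_diagHom]
        ext a b
        rw [Matrix.mul_diagonal, Matrix.diagonal_mul, Pi.inv_apply, Units.val_inv_eq_inv_val]
        field_simp
    rw [outDiag, MonoidHom.comp_apply, this, map_one]

theorem diag_card_cyclic (hm : 1 ≤ m) :
    IsCyclic (outDiag : GLn →* Cfsg.Out PSLn).range ∧
      Nat.card (outDiag : GLn →* Cfsg.Out PSLn).range = Nat.gcd (m + 1) (Nat.card F - 1) := by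
  rw [range_outDiag]
  refine ⟨isCyclic_of_surjective (outUnit (m := m) (F := F)).rangeRestrict
    (outUnit (m := m) (F := F)).rangeRestrict_surjective, ?_⟩
  rw [← Subgroup.index_ker, ker_outUnit hm, IsCyclic.index_powMonoidHom_range, Nat.card_units, Nat.gcd_comm]

/-- The automorphism group of a field with `p^f` elements. -/
theorem exists_fieldAut_iso {p f : ℕ} [Fact p.Prime] (hf : 1 ≤ f) (hF : Fintype.card F = p ^ f) :
    Nonempty ((F ≃+* F) ≃* Multiplicative (ZMod f)) := by
  have : NeZero f := ⟨by omega⟩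
  have : CharP F p := charP_of_card_eq_prime_pow hF
  let alg : Algebra (ZMod p) F := ZMod.algebra F p
  have hfr : Module.finrank (ZMod p) F = f := by
    have h := Module.natCard_eq_pow_finrank (K := ZMod p) (V := F)
    rw [Nat.card_eq_fintype_card, hF, Nat.card_zmod] at h
    exact (Nat.pow_right_injective (Fact.out : p.Prime).two_le h).symm
  let e : Gal(F/ZMod p) ≃* (F ≃+* F) :=
    { toFun := fun x => x.toRingEquiv
      invFun := fun x => AlgEquiv.ofRingEquiv (f := x) (fun r =>
        DFunLike.congr_fun (RingHom.ext_zmod (x.toRingHom.comp (algebraMap (ZMod p) F)) (algebraMap (ZMod p) F)) r)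
      left_inv := fun x => AlgEquiv.ext fun _ => rfl
      right_inv := fun x => RingEquiv.ext fun _ => rfl
      map_mul' := fun x y => RingEquiv.ext fun _ => rfl }
  have hc : IsCyclic (F ≃+* F) := isCyclic_of_surjective e.toMonoidHom e.surjective
  refine ⟨mulEquivOfCyclicCardEq ?_⟩
  rw [← Nat.card_congr e.toEquiv, IsGalois.card_aut_eq_finrank, hfr, Nat.card_eq_fintype_card,
    Fintype.card_multiplicative, ZMod.card]

/-- A group of representatives of automorphisms modulo inner-diagonal ones gives a map on `Out`. -/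
theorem exists_out_hom {K : Type*} [Group K] (hm : 1 ≤ m) (Ψ : K →* MulAut PSLn)
    (hinj : ∀ k g, Ψ k = conjP g → k = 1)
    (hsurj : ∀ β : MulAut PSLn, ∃ g k, β = conjP g * Ψ k) :
    ∃ φ : Cfsg.Out PSLn →* K, Function.Surjective φ ∧ φ.ker = (outDiag : GLn →* Cfsg.Out PSLn).range := by
  have hN := range_conjP_normal (F := F) hm
  set D := (conjP : GLn →* MulAut PSLn).range with hD
  have hbij : Function.Bijective ((QuotientGroup.mk' D).comp Ψ) := by
    constructor
    · rw [injective_iff_map_eq_one]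
      intro k hk
      obtain ⟨g, hg⟩ := (QuotientGroup.eq_one_iff _).1 hk
      exact hinj k g hg.symm
    · intro x
      obtain ⟨β, rfl⟩ := QuotientGroup.mk'_surjective D x
      obtain ⟨g, k, rfl⟩ := hsurj β
      refine ⟨k, ?_⟩
      rw [map_mul, show (QuotientGroup.mk' D) (conjP g) = 1 from (QuotientGroup.eq_one_iff _).2 ⟨g, rfl⟩, one_mul]
      rfl
  let e := MulEquiv.ofBijective _ hbij
  let φ0 : MulAut PSLn →* K := e.symm.toMonoidHom.comp (QuotientGroup.mk' D)
  have hker : Cfsg.Inn PSLn ≤ φ0.ker := fun x hx => by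
    show e.symm (QuotientGroup.mk' D x) = 1
    rw [show QuotientGroup.mk' D x = 1 from (QuotientGroup.eq_one_iff _).2 (inn_le_range hx), map_one]
  refine ⟨QuotientGroup.lift _ φ0 hker, ?_, ?_⟩
  · refine QuotientGroup.lift_surjective_of_surjective _ _ ?_ _
    exact e.symm.surjective.comp (QuotientGroup.mk'_surjective D)
  · ext x
    obtain ⟨β, rfl⟩ := QuotientGroup.mk'_surjective (Cfsg.Inn PSLn) x
    rw [MonoidHom.mem_ker]
    show e.symm (QuotientGroup.mk' D β) = 1 ↔ _
    rw [EmbeddingLike.map_eq_one_iff, QuotientGroup.mk'_apply, QuotientGroup.eq_one_iff]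
    constructor
    · rintro ⟨g, rfl⟩
      exact ⟨g, rfl⟩
    · rintro ⟨g, hg⟩
      have h1 : (conjP g)⁻¹ * β ∈ D := inn_le_range ((QuotientGroup.eq).1 hg)
      simpa using D.mul_mem ⟨g, rfl⟩ h1

end Finite

end Cfsg.Agent.AutPSLOuter
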